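import Groth.Agent.L16.Connected.Stein
import Groth.Agent.L06.NoetherAffine

/-!
# Idempotents on a fibre of a proper morphism come from functions near the fibre
-/

set_option autoImplicit false
set_option backward.isDefEq.respectTransparency false

universe u

open CategoryTheory CategoryTheory.Limits AlgebraicGeometry TopologicalSpace Opposite

noncomputable section

namespace Groth.L11.FibIdem

theorem appLE_congr {P X : Scheme.{u}} {f g : P ⟶ X} (h : f = g) (W : X.Opens) (U : P.Opens) (e : U ≤ f ⁻¹ᵁ W) :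
    f.appLE W U e = g.appLE W U (h ▸ e) := by subst h; rfl

/-- A germ of an idempotent is `0` or `1`. -/
theorem germ_idem {X : Scheme.{u}} {e : Γ(X, ⊤)} (he : IsIdempotentElem e) (x : X) :
    (x ∈ X.basicOpen e ∧ X.presheaf.germ ⊤ x trivial e = 1) ∨
      (x ∉ X.basicOpen e ∧ X.presheaf.germ ⊤ x trivial e = 0) := by
  rw [Scheme.mem_basicOpen_top]
  rcases IsLocalRing.isUnit_or_isUnit_one_sub_self (X.presheaf.germ ⊤ x trivial e) with h | h
  · exact Or.inl ⟨h, h.mul_left_cancel ((he.map (X.presheaf.germ ⊤ x trivial).hom).eq.trans (mul_one _).symm)⟩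
  · have h0 : X.presheaf.germ ⊤ x trivial e = 0 := h.mul_left_cancel (by
      rw [mul_zero, sub_mul, one_mul, (he.map (X.presheaf.germ ⊤ x trivial).hom).eq, sub_self])
    exact Or.inr ⟨fun hu => not_isUnit_zero (h0 ▸ hu), h0⟩

theorem eq_of_idem {X : Scheme.{u}} {e e' : Γ(X, ⊤)} (he : IsIdempotentElem e) (he' : IsIdempotentElem e')
    (h : X.basicOpen e = X.basicOpen e') : e = e' := by
  refine TopCat.Presheaf.section_ext X.sheaf ⊤ _ _ fun x _ => ?_
  rcases germ_idem he x with ⟨hx, h₁⟩ | ⟨hx, h₁⟩ <;> rcases germ_idem he' x with ⟨hx', h₂⟩ | ⟨hx', h₂⟩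
  · exact h₁.trans h₂.symm
  · exact absurd (h ▸ hx) hx'
  · exact absurd (h.symm ▸ hx') hx
  · exact h₁.trans h₂.symm

theorem isClopen_basicOpen {X : Scheme.{u}} {e : Γ(X, ⊤)} (he : IsIdempotentElem e) :
    IsClopen (X.basicOpen e : Set X) := by
  refine ⟨isOpen_compl_iff.1 ?_, (X.basicOpen e).isOpen⟩
  have : (X.basicOpen e : Set X)ᶜ = X.basicOpen (1 - e) := by
    ext x
    have hs : X.presheaf.germ ⊤ x trivial (1 - e) = 1 - X.presheaf.germ ⊤ x trivial e := by rw [map_sub, map_one]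
    simp only [Set.mem_compl_iff, SetLike.mem_coe]
    constructor
    · intro hx
      rw [Scheme.mem_basicOpen_top, hs]
      rcases germ_idem he x with ⟨hx', -⟩ | ⟨-, h0⟩
      · exact absurd hx' hx
      · rw [h0, sub_zero]; exact isUnit_one
    · intro hx hx'
      rw [Scheme.mem_basicOpen_top, hs] at hx
      rcases germ_idem he x with ⟨-, h1⟩ | ⟨hn, -⟩
      · rw [h1, sub_self] at hx; exact not_isUnit_zero hx
      · exact hn hx'
  rw [this]
  exact (X.basicOpen (1 - e)).isOpen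

/-- An idempotent with prescribed clopen support on an affine scheme. -/
theorem exists_idem {Q : Scheme.{u}} [IsAffine Q] {W : Set Q} (hW : IsClopen W) :
    ∃ e : Γ(Q, ⊤), IsIdempotentElem e ∧ (Q.basicOpen e : Set Q) = W := by
  have hW' : IsClopen (Q.isoSpec.inv ⁻¹' W : Set (PrimeSpectrum Γ(Q, ⊤))) := hW.preimage Q.isoSpec.inv.continuous
  obtain ⟨e, he, hb⟩ := PrimeSpectrum.exists_idempotent_basicOpen_eq_of_isClopen hW'
  refine ⟨e, he, ?_⟩
  rw [← Scheme.toSpecΓ_preimage_basicOpen]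
  ext x
  have hx : Q.isoSpec.inv (Q.toSpecΓ x) = x :=
    congrArg (fun t : Q ⟶ Q => t x) Q.isoSpec.hom_inv_id
  refine (Set.ext_iff.1 hb (Q.toSpecΓ x)).symm.trans ?_
  change Q.isoSpec.inv (Q.toSpecΓ x) ∈ W ↔ _
  rw [hx]

/-- Functions on a fibre of an affine morphism between affine schemes are quotients of functions. -/
theorem exists_scale {Y S : Scheme.{u}} [IsAffine Y] [IsAffine S] (g : Y ⟶ S) (s : S) (r : Γ(g.fiber s, ⊤)) :
    ∃ (u : Γ(S, ⊤)) (b : Γ(Y, ⊤)), IsUnit ((S.fromSpecResidueField s).appTop u) ∧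
      (g.fiberι s).appTop (g.appTop u) * r = (g.fiberι s).appTop b := by
  have sq : IsPullback (g.fiberι s) (g.fiberToSpecResidueField s) g (S.fromSpecResidueField s) :=
    IsPullback.of_hasPullback _ _
  have hcl := CommRingCat.closure_range_union_range_eq_top_of_isPushout (isPushout_appTop_of_isPullback sq)
  let ι : Γ(Y, ⊤) →+* Γ(g.fiber s, ⊤) := (g.fiberι s).appTop.hom
  let str : Γ(Spec (S.residueField s), ⊤) →+* Γ(g.fiber s, ⊤) := (g.fiberToSpecResidueField s).appTop.hom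
  have hcompat : ∀ a, str ((S.fromSpecResidueField s).appTop a) = ι (g.appTop a) := fun a => by
    have h := congrArg (fun φ => φ.appTop) sq.w
    simp only [Scheme.Hom.comp_appTop] at h
    exact (ConcreteCategory.congr_hom h a).symm
  suffices ∀ r, ∃ (u : Γ(S, ⊤)) (b : Γ(Y, ⊤)), IsUnit ((S.fromSpecResidueField s).appTop u) ∧
      ι (g.appTop u) * r = ι b from this r
  intro r
  have hr : r ∈ Subring.closure (Set.range (g.fiberι s).appTop ∪ Set.range (g.fiberToSpecResidueField s).appTop) := by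
    rw [hcl]; trivial
  induction hr using Subring.closure_induction with
  | mem x hx =>
    rcases hx with ⟨b, rfl⟩ | ⟨c, rfl⟩
    · exact ⟨1, b, by simp, by simp only [map_one, one_mul]; rfl⟩
    · obtain ⟨a, u, hu, h⟩ := Groth.L06.NoetherAffine.exists_mul_eq s c
      refine ⟨u, g.appTop a, hu, ?_⟩
      rw [← hcompat, ← hcompat, ← h, map_mul, mul_comm]
  | zero => exact ⟨1, 0, by simp, by simp⟩
  | one => exact ⟨1, 1, by simp, by simp⟩
  | add x z _ _ ihx ihz =>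
    obtain ⟨u, b, hu, h⟩ := ihx
    obtain ⟨u', b', hu', h'⟩ := ihz
    refine ⟨u * u', g.appTop u' * b + g.appTop u * b', by rw [map_mul]; exact hu.mul hu', ?_⟩
    simp only [map_add, map_mul, ← h, ← h']
    ring
  | neg x _ ih =>
    obtain ⟨u, b, hu, h⟩ := ih
    exact ⟨u, -b, hu, by rw [map_neg, mul_neg, h]⟩
  | mul x z _ _ ihx ihz =>
    obtain ⟨u, b, hu, h⟩ := ihx
    obtain ⟨u', b', hu', h'⟩ := ihz
    refine ⟨u * u', b * b', by rw [map_mul]; exact hu.mul hu', ?_⟩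
    simp only [map_mul, ← h, ← h']
    ring

/-- The affine case. -/
theorem core {X S : Scheme.{u}} [IsAffine S] (f : X ⟶ S) [IsProper f] (s : S) (e : Γ(f.fiber s, ⊤))
    (he : IsIdempotentElem e) :
    ∃ (u : Γ(S, ⊤)) (b : Γ(X, ⊤)), IsUnit ((S.fromSpecResidueField s).appTop u) ∧
      (f.fiberι s).appTop (f.appTop u) * e = (f.fiberι s).appTop b := by
  let μ := CohIII.fiberMapOver f.toNormalization f f.fromNormalization f.toNormalization_fromNormalization s
  obtain ⟨-, hdisc, hsurj, hiff⟩ := Groth.L16.Connected.stein_fibre f s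
  haveI := hdisc
  haveI : IsAffine f.normalization := isAffine_of_isAffineHom f.fromNormalization
  haveI : IsAffine (f.fromNormalization.fiber s) := inferInstanceAs (IsAffine (pullback _ _))
  obtain ⟨e', he', hW⟩ := exists_idem (isClopen_discrete (μ '' (f.fiber s).basicOpen e : Set _))
  have hU : (f.fiber s).basicOpen e = (f.fiber s).basicOpen (μ.appTop e') := by
    rw [← Scheme.preimage_basicOpen_top]
    refine Opens.ext ?_
    rw [Opens.map_coe, hW]
    refine Set.Subset.antisymm (Set.subset_preimage_image _ _) ?_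
    rintro x ⟨x', hx', hxx⟩
    exact (isClopen_basicOpen he).connectedComponent_subset hx'
      (((hiff x' x).1 hxx).symm ▸ mem_connectedComponent)
  have hee : e = μ.appTop e' := eq_of_idem he (he'.map μ.appTop.hom) hU
  obtain ⟨u, b, hu, h⟩ := exists_scale f.fromNormalization s e'
  refine ⟨u, f.toNormalization.appTop b, hu, ?_⟩
  have hμ : μ ≫ f.fromNormalization.fiberι s = f.fiberι s ≫ f.toNormalization := pullback.lift_fst _ _ _
  have key : ∀ y : Γ(f.normalization, ⊤), μ.appTop ((f.fromNormalization.fiberι s).appTop y) =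
      (f.fiberι s).appTop (f.toNormalization.appTop y) := fun y => by
    have h' := congrArg (fun φ => φ.appTop y) hμ
    simpa using h'
  have hf : f.appTop u = f.toNormalization.appTop (f.fromNormalization.appTop u) := by
    rw [← ConcreteCategory.comp_apply, ← Scheme.Hom.comp_appTop, f.toNormalization_fromNormalization]
  rw [hf, ← key, ← key, hee, ← h, map_mul]

/-- Idempotents of a fibre are induced from a neighbourhood. -/
theorem main {X S : Scheme.{u}} (f : X ⟶ S) [IsProper f] (s : S) (e : Γ(f.fiber s, ⊤)) (he : IsIdempotentElem e) :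
    ∃ (V : S.Opens) (_ : s ∈ V) (t : Γ(X, f ⁻¹ᵁ V)) (hle : ⊤ ≤ f.fiberι s ⁻¹ᵁ (f ⁻¹ᵁ V)),
      (f.fiberι s).appLE (f ⁻¹ᵁ V) ⊤ hle t = e := by
  obtain ⟨_, ⟨U, hU, rfl⟩, hsU, -⟩ := S.isBasis_affineOpens.exists_subset_of_mem_open (Set.mem_univ s) isOpen_univ
  haveI : IsAffine (U : Scheme.{u}) := hU
  haveI : IsProper (f ∣_ U) := IsZariskiLocalAtTarget.restrict ‹IsProper f› U
  let s' : (U : Scheme.{u}) := ⟨s, hsU⟩
  have sq := isPullback_fiberToSpecResidueField_of_isPullback (isPullback_morphismRestrict f U).flip s'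
  have hw : (f ∣_ U) ≫ Scheme.Opens.ι U = (f ⁻¹ᵁ U).ι ≫ f := morphismRestrict_ι f U
  let Φ : (f ∣_ U).fiber s' ⟶ f.fiber s :=
    pullback.map _ _ _ _ (f ⁻¹ᵁ U).ι (Spec.map ((Scheme.Opens.ι U).residueFieldMap s')) (Scheme.Opens.ι U) hw
      (Scheme.Hom.SpecMap_residueFieldMap_fromSpecResidueField _ _).symm
  haveI hr : IsIso (Spec.map ((Scheme.Opens.ι U).residueFieldMap s')) := inferInstance
  haveI : IsIso Φ := MorphismProperty.of_isPullback (P := MorphismProperty.isomorphisms Scheme.{u})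
    (show IsPullback ((f ∣_ U).fiberToSpecResidueField s') Φ (Spec.map ((Scheme.Opens.ι U).residueFieldMap s'))
      (f.fiberToSpecResidueField s) from sq.flip) hr
  have hΦ : Φ ≫ f.fiberι s = (f ∣_ U).fiberι s' ≫ (f ⁻¹ᵁ U).ι := pullback.lift_fst _ _ _
  obtain ⟨u, b, hu, h⟩ := core (f ∣_ U) s' (Φ.appTop e) (he.map Φ.appTop.hom)
  let D : (U : Scheme.{u}).Opens := (U : Scheme.{u}).basicOpen u
  have hs' : s' ∈ D := by
    have h1 : (⊤ : (Spec ((U : Scheme.{u}).residueField s')).Opens) =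
        (U : Scheme.{u}).fromSpecResidueField s' ⁻¹ᵁ D := by
      rw [Scheme.preimage_basicOpen_top, Scheme.basicOpen_of_isUnit _ hu]
    have h2 : IsLocalRing.closedPoint ((U : Scheme.{u}).residueField s') ∈
        (U : Scheme.{u}).fromSpecResidueField s' ⁻¹ᵁ D := h1 ▸ trivial
    have h3 : (U : Scheme.{u}).fromSpecResidueField s' (IsLocalRing.closedPoint ((U : Scheme.{u}).residueField s')) = s' :=
      Scheme.fromSpecResidueField_apply _ _
    exact h3 ▸ h2
  let V : S.Opens := Scheme.Opens.ι U ''ᵁ D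
  have hsV : s ∈ V := ⟨s', hs', rfl⟩
  let W₀ : ((f ⁻¹ᵁ U : X.Opens) : Scheme.{u}).Opens := (f ∣_ U) ⁻¹ᵁ D
  have hW₀ : (f ⁻¹ᵁ U).ι ''ᵁ W₀ = f ⁻¹ᵁ V := image_morphismRestrict_preimage f U D
  -- the quotient `b / f^*u` over `W₀`
  let r := ((f ⁻¹ᵁ U : X.Opens) : Scheme.{u}).presheaf.map (homOfLE (le_top : W₀ ≤ ⊤)).op
  have hru : IsUnit (r ((f ∣_ U).appTop u)) := by
    let Xb := ((f ⁻¹ᵁ U : X.Opens) : Scheme.{u})
    have hW : W₀ ≤ Xb.basicOpen ((f ∣_ U).appTop u) := (Scheme.preimage_basicOpen_top _ _).le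
    have := (RingedSpace.isUnit_res_basicOpen (X := Xb.toLocallyRingedSpace.toRingedSpace)
      ((f ∣_ U).appTop u)).map (Xb.presheaf.map (homOfLE hW).op).hom
    have hr : r = Xb.presheaf.map (homOfLE (le_top : Xb.basicOpen ((f ∣_ U).appTop u) ≤ ⊤)).op ≫
        Xb.presheaf.map (homOfLE hW).op := by
      rw [← Functor.map_comp]
      rfl
    rw [hr, ConcreteCategory.comp_apply]
    exact this
  obtain ⟨v, hv⟩ := hru
  let t₀ : Γ(((f ⁻¹ᵁ U : X.Opens) : Scheme.{u}), W₀) := (↑v⁻¹ : Γ(((f ⁻¹ᵁ U : X.Opens) : Scheme.{u}), W₀)) * r b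
  let jW := (f ⁻¹ᵁ U).ι
  have hle₁ : W₀ ≤ jW ⁻¹ᵁ (f ⁻¹ᵁ V) := fun x hx => hW₀.le ⟨x, hx, rfl⟩
  have hbij : Function.Bijective (jW.appLE (f ⁻¹ᵁ V) W₀ hle₁) := by
    haveI : IsIso (jW.appLE (f ⁻¹ᵁ V) W₀ hle₁) := by
      rw [Scheme.Opens.ι_appLE]
      haveI : IsIso (homOfLE (show jW ''ᵁ W₀ ≤ f ⁻¹ᵁ V from hW₀.le)).op :=
        ⟨(homOfLE hW₀.ge).op, Subsingleton.elim _ _, Subsingleton.elim _ _⟩
      exact Functor.map_isIso X.presheaf _
    exact ConcreteCategory.bijective_of_isIso _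
  obtain ⟨t, ht⟩ := hbij.2 t₀
  have hle₂ : ⊤ ≤ (f ∣_ U).fiberι s' ⁻¹ᵁ W₀ := fun x _ => by
    change (f ∣_ U) ((f ∣_ U).fiberι s' x) ∈ D
    have : (f ∣_ U) ((f ∣_ U).fiberι s' x) = s' := ((f ∣_ U).range_fiberι s').le ⟨x, rfl⟩
    rw [this]; exact hs'
  have hle : ⊤ ≤ f.fiberι s ⁻¹ᵁ (f ⁻¹ᵁ V) := fun x _ => by
    change f (f.fiberι s x) ∈ V
    have : f (f.fiberι s x) = s := (f.range_fiberι s).le ⟨x, rfl⟩
    rw [this]; exact hsV
  refine ⟨V, hsV, t, hle, (ConcreteCategory.bijective_of_isIso Φ.appTop).1 ?_⟩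
  have h₁ : Φ.appTop ((f.fiberι s).appLE (f ⁻¹ᵁ V) ⊤ hle t) = (Φ ≫ f.fiberι s).appLE (f ⁻¹ᵁ V) ⊤ (fun x _ => hle trivial) t := by
    rw [Scheme.Hom.appTop, Scheme.Hom.app_eq_appLE, ← ConcreteCategory.comp_apply, Scheme.Hom.appLE_comp_appLE]
    rfl
  have h₂ : ((f ∣_ U).fiberι s').appLE W₀ ⊤ hle₂ (jW.appLE (f ⁻¹ᵁ V) W₀ hle₁ t) =
      ((f ∣_ U).fiberι s' ≫ jW).appLE (f ⁻¹ᵁ V) ⊤ (fun x hx => hle₁ (hle₂ hx)) t := by
    rw [← ConcreteCategory.comp_apply, Scheme.Hom.appLE_comp_appLE]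
  rw [h₁, appLE_congr hΦ, ← h₂, ht]
  -- cancel the unit
  have h₃ : ∀ y, ((f ∣_ U).fiberι s').appLE W₀ ⊤ hle₂ (r y) = ((f ∣_ U).fiberι s').appTop y := fun y => by
    rw [← ConcreteCategory.comp_apply, Scheme.Hom.map_appLE, Scheme.Hom.appTop, Scheme.Hom.app_eq_appLE]
    rfl
  refine (v.isUnit.map (((f ∣_ U).fiberι s').appLE W₀ ⊤ hle₂).hom).mul_left_cancel ?_
  rw [← map_mul]
  change (((f ∣_ U).fiberι s').appLE W₀ ⊤ hle₂) (↑v * (↑v⁻¹ * r b)) = _
  rw [Units.mul_inv_cancel_left, h₃, hv, h₃]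
  exact h.symm

end Groth.L11.FibIdem
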